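import Mathlib

/-!
Transfer to a quotient of order 2 of a Sylow 2-subgroup, and elementary facts on pairs of involutions.
-/

set_option autoImplicit false

namespace Cfsg.Agent.TwoTransfer

open Subgroup

variable {G : Type*} [Group G]

/-- The homomorphism onto a group of order 2 given by an index 2 subgroup. -/
noncomputable def sgn {H : Type*} [Group H] (M : Subgroup H) (h : M.index = 2) :
    H →* Multiplicative (ZMod 2) :=
  open scoped Classical in
  MonoidHom.mk' (fun s => if s ∈ M then 1 else Multiplicative.ofAdd 1) (by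
    intro a b
    have := Subgroup.mul_mem_iff_of_index_two h (a := a) (b := b)
    by_cases ha : a ∈ M <;> by_cases hb : b ∈ M <;> simp_all <;> decide)

theorem sgn_apply_of_mem {H : Type*} [Group H] (M : Subgroup H) (h : M.index = 2) {s : H}
    (hs : s ∈ M) : sgn M h s = 1 := by simp [sgn, hs]

theorem sgn_apply_of_notMem {H : Type*} [Group H] (M : Subgroup H) (h : M.index = 2) {s : H}
    (hs : s ∉ M) : sgn M h s = Multiplicative.ofAdd 1 := by simp [sgn, hs]

/-- Generalised Thompson transfer lemma. -/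
theorem exists_index_two [Finite G] (S : Sylow 2 G) (M : Subgroup G) (hM : M.relIndex S = 2)
    (x : G) (hx : x ∈ S)
    (hpow : ∀ (k : ℕ) (g : G), 1 ≤ k → g⁻¹ * x ^ (2 ^ k) * g ∈ S → g⁻¹ * x ^ (2 ^ k) * g ∈ M)
    (hfix : ∀ g : G, g⁻¹ * x * g ∈ S → g⁻¹ * x * g ∉ M) :
    ∃ N : Subgroup G, N.Normal ∧ N.index = 2 ∧ x ∉ N := by
  classical
  have hM' : (M.subgroupOf (S : Subgroup G)).index = 2 := hM
  set θ := sgn (M.subgroupOf (S : Subgroup G)) hM' with hθ
  set φ := MonoidHom.transfer θ with hφ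
  let : Fintype (Quotient (MulAction.orbitRel (zpowers x) (G ⧸ (S : Subgroup G)))) :=
    Fintype.ofFinite _
  have hper : ∀ q : Quotient (MulAction.orbitRel (zpowers x) (G ⧸ (S : Subgroup G))),
      ∃ k : ℕ, Function.minimalPeriod (x • ·) q.out = 2 ^ k := by
    intro q
    obtain ⟨a, ha⟩ := IsPGroup.iff_orderOf.1 S.2 ⟨x, hx⟩
    rw [Subgroup.orderOf_mk] at ha
    have hd : Function.minimalPeriod (x • ·) q.out ∣ 2 ^ a := by
      apply Function.IsPeriodicPt.minimalPeriod_dvd
      simp only [Function.IsPeriodicPt, Function.IsFixedPt, smul_iterate, ← ha,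
        pow_orderOf_eq_one, one_smul]
    obtain ⟨k, -, hk⟩ := (Nat.dvd_prime_pow Nat.prime_two).1 hd
    exact ⟨k, hk⟩
  have hval : ∀ q : Quotient (MulAction.orbitRel (zpowers x) (G ⧸ (S : Subgroup G))),
      θ ⟨_, QuotientGroup.out_conj_pow_minimalPeriod_mem (S : Subgroup G) x q.out⟩ =
        Multiplicative.ofAdd ((Function.minimalPeriod (x • ·) q.out : ℕ) : ZMod 2) := by
    intro q
    obtain ⟨k, hk⟩ := hper q
    have hmem := QuotientGroup.out_conj_pow_minimalPeriod_mem (S : Subgroup G) x q.out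
    rcases Nat.eq_zero_or_pos k with h0 | h0
    · subst h0
      simp only [pow_zero] at hk
      rw [hθ, sgn_apply_of_notMem]
      · simp [hk]
      · simp only [hk, pow_one, Subgroup.mem_subgroupOf] at hmem ⊢
        exact hfix _ hmem
    · rw [hθ, sgn_apply_of_mem]
      · rw [hk]
        have : ((2 ^ k : ℕ) : ZMod 2) = 0 := by
          rw [ZMod.natCast_eq_zero_iff]; exact dvd_pow_self 2 (by omega)
        rw [this]; rfl
      · simp only [hk, Subgroup.mem_subgroupOf] at hmem ⊢
        exact hpow k _ h0 hmem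
  have hsum : φ x = Multiplicative.ofAdd (((S : Subgroup G).index : ℕ) : ZMod 2) := by
    rw [hφ, MonoidHom.transfer_eq_prod_quotient_orbitRel_zpowers_quot]
    simp only [hval]
    rw [← ofAdd_sum, ← Nat.cast_sum, ← Subgroup.index_eq_sum_minimalPeriod]
  have hodd : (((S : Subgroup G).index : ℕ) : ZMod 2) = 1 := by
    have h2 : ¬ 2 ∣ (S : Subgroup G).index := S.not_dvd_index
    rw [ZMod.natCast_eq_one_iff_odd]
    exact Nat.odd_iff.2 (by omega)
  rw [hodd] at hsum
  have hxN : x ∉ φ.ker := by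
    simp [MonoidHom.mem_ker, hsum]
  refine ⟨φ.ker, inferInstance, ?_, hxN⟩
  rw [Subgroup.index_ker]
  have : φ.range = ⊤ := by
    rw [eq_top_iff]
    rintro a -
    have key : a = 1 ∨ a = Multiplicative.ofAdd 1 := by revert a; decide
    rcases key with rfl | rfl
    · exact one_mem _
    · exact ⟨x, hsum⟩
  rw [this, Subgroup.card_top]
  simp

/-- Two non-conjugate involutions are centralized by an involution in the cyclic group of their product. -/
theorem exists_commuting_involution [Finite G] {a b : G} (ha : orderOf a = 2) (hb : orderOf b = 2)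
    (hab : ¬ IsConj a b) :
    ∃ m : ℕ, 0 < m ∧ orderOf (a * b) = 2 * m ∧ orderOf ((a * b) ^ m) = 2 ∧
      Commute ((a * b) ^ m) a ∧ Commute ((a * b) ^ m) b ∧ (a * b) ^ m ≠ a ∧ (a * b) ^ m ≠ b ∧
      (Even m → IsConj a (a * (a * b) ^ m)) ∧ (¬ Even m → IsConj b (a * (a * b) ^ m)) := by
  have ha2 : a * a = 1 := by rw [← sq, ← ha]; exact pow_orderOf_eq_one a
  have hb2 : b * b = 1 := by rw [← sq, ← hb]; exact pow_orderOf_eq_one b
  have hai : a⁻¹ = a := inv_eq_of_mul_eq_one_right ha2
  have hbi : b⁻¹ = b := inv_eq_of_mul_eq_one_right hb2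
  set r := a * b with hr
  have hinv : a * r * a⁻¹ = r⁻¹ := by
    rw [hr, mul_inv_rev, hbi, hai, ← mul_assoc, ha2, one_mul]
  have hpow : ∀ k : ℕ, a * r ^ k * a⁻¹ = (r ^ k)⁻¹ := by
    intro k
    rw [← conj_pow, hinv, inv_pow]
  have hhalf : ∀ s : ℕ, (r ^ s)⁻¹ * a * r ^ s = a * r ^ (2 * s) := by
    intro s
    rw [← hpow s, two_mul, pow_add]
    rw [hai, mul_assoc (a * r ^ s) a a, ha2, mul_one, mul_assoc]
  have hb' : b = a * r := by rw [hr, ← mul_assoc, ha2, one_mul]
  rcases Nat.even_or_odd (orderOf r) with ⟨m, hm⟩ | ⟨m, hm⟩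
  swap
  · exfalso
    apply hab
    rw [isConj_iff]
    refine ⟨(r ^ (m + 1))⁻¹, ?_⟩
    rw [inv_inv, hhalf, show 2 * (m + 1) = orderOf r + 1 by omega, pow_succ, pow_orderOf_eq_one,
      one_mul, ← hb']
  have hm0 : 0 < m := by
    have := orderOf_pos r
    omega
  have hord : orderOf (r ^ m) = 2 := by
    rw [orderOf_pow' _ (by omega), hm, Nat.gcd_eq_right ⟨2, by ring⟩]
    rw [show m + m = 2 * m by ring]
    exact Nat.mul_div_cancel 2 hm0
  have hwi : (r ^ m)⁻¹ = r ^ m := by
    apply inv_eq_of_mul_eq_one_right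
    rw [← pow_add, ← hm, pow_orderOf_eq_one]
  have hca : Commute (r ^ m) a := by
    have := hpow m
    rw [hwi] at this
    exact ((mul_inv_eq_iff_eq_mul).1 this).symm
  have hcb : Commute (r ^ m) b := by
    rw [hb']
    exact hca.mul_right (Commute.pow_self r m)
  have h1 : r ^ m ≠ a := by
    intro h
    have hc : Commute r a := by rw [← h]; exact Commute.self_pow r m
    have hr2 : r * r = 1 := by
      have h' := hinv
      rw [← hc.eq, mul_inv_cancel_right] at h'
      calc r * r = r * r⁻¹ := by rw [← h']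
        _ = 1 := mul_inv_cancel r
    have hm1 : m = 1 := by
      have : orderOf r ∣ 2 := orderOf_dvd_of_pow_eq_one (by rw [sq]; exact hr2)
      have := Nat.le_of_dvd two_pos this
      omega
    subst hm1
    rw [pow_one, hr, mul_eq_left] at h
    simp [h] at hb
  refine ⟨m, hm0, by omega, hord, hca, hcb, h1, ?_, ?_, ?_⟩
  · intro h
    have hc : Commute r b := by rw [← h]; exact Commute.self_pow r m
    have hr2 : r * r = 1 := by
      have h' : b * r * b⁻¹ = r⁻¹ := by
        rw [hr, mul_inv_rev, hbi, hai, mul_assoc, mul_assoc, hb2, mul_one]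
      rw [← hc.eq, mul_inv_cancel_right] at h'
      calc r * r = r * r⁻¹ := by rw [← h']
        _ = 1 := mul_inv_cancel r
    have hm1 : m = 1 := by
      have : orderOf r ∣ 2 := orderOf_dvd_of_pow_eq_one (by rw [sq]; exact hr2)
      have := Nat.le_of_dvd two_pos this
      omega
    subst hm1
    rw [pow_one, hr, mul_eq_right] at h
    simp [h] at ha
  · rintro ⟨s, rfl⟩
    rw [isConj_iff]
    refine ⟨(r ^ s)⁻¹, ?_⟩
    rw [inv_inv, hhalf, two_mul]
  · intro ho
    obtain ⟨s, rfl⟩ := Nat.not_even_iff_odd.1 ho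
    rw [isConj_iff]
    refine ⟨(r ^ s)⁻¹, ?_⟩
    rw [inv_inv, hb', pow_succ, ← mul_assoc, mul_assoc ((r ^ s)⁻¹ * a) r, (Commute.self_pow r s).eq,
      ← mul_assoc, hhalf, mul_assoc]

end Cfsg.Agent.TwoTransfer
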